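import Cfsg.Agent.Lib.Words.SL2
import Cfsg.Prelude.Def_Classical

/-!
Embeddings of `GL_m`, symmetric/alternating groups and `SL₂` into the classical groups, and
transfer of laws along them.
-/

set_option autoImplicit false

namespace CfsgLib.Words

open Matrix
open scoped commutatorElement

/-- `w` is a law of `G`. -/
def IsLaw (w : FreeGroup ℕ) (G : Type*) [Group G] : Prop := ∀ f : ℕ → G, FreeGroup.lift f w = 1

theorem IsLaw.of_injective {w : FreeGroup ℕ} {G H : Type*} [Group G] [Group H] (hG : IsLaw w G)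
    (φ : H →* G) (hφ : Function.Injective φ) : IsLaw w H := fun f =>
  hφ (by rw [map_lift, map_one]; exact hG _)

theorem IsLaw.centralWord {w : FreeGroup ℕ} {S : Type*} [Group S]
    (h : IsLaw w (S ⧸ Subgroup.center S)) : IsLaw (centralWord w) S := by
  intro f
  rw [Words.centralWord, map_commutatorElement, FreeGroup.lift_apply_of]
  have hz : FreeGroup.lift f (FreeGroup.map Nat.succ w) ∈ Subgroup.center S := by
    rw [← QuotientGroup.eq_one_iff, ← QuotientGroup.mk'_apply]
    have : ((QuotientGroup.mk' (Subgroup.center S)).comp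
        ((FreeGroup.lift f).comp (FreeGroup.map Nat.succ))) =
        FreeGroup.lift (fun i => QuotientGroup.mk' (Subgroup.center S) (f (i + 1))) :=
      FreeGroup.ext_hom _ _ fun i => by simp
    exact (DFunLike.congr_fun this w).trans (h _)
  rw [commutatorElement_eq_one_iff_commute]
  exact Commute.symm (Subgroup.mem_center_iff.mp hz _)

theorem IsLaw.commSubst {w : FreeGroup ℕ} {I : Type*} [Group I] (h : IsLaw w ↥(commutator I)) :
    IsLaw (commSubst w) I := by
  intro f
  let f' : ℕ → ↥(commutator I) := fun i => ⟨⁅f (2 * i), f (2 * i + 1)⁆,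
    Subgroup.commutator_mem_commutator (Subgroup.mem_top _) (Subgroup.mem_top _)⟩
  have : (FreeGroup.lift f).comp Words.commSubst = (commutator I).subtype.comp (FreeGroup.lift f') :=
    FreeGroup.ext_hom _ _ fun i => by simp [Words.commSubst, f', map_commutatorElement]
  have := DFunLike.congr_fun this w
  simp only [MonoidHom.comp_apply] at this
  rw [this, h f', map_one]

theorem IsLaw.commSubst_of_law {w : FreeGroup ℕ} {I : Type*} [Group I] (h : IsLaw w I) :
    IsLaw (Words.commSubst w) I :=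
  IsLaw.commSubst (h.of_injective (commutator I).subtype (Subgroup.subtype_injective _))

variable {F : Type*} [Field F]

section Blocks

variable {ι κ μ : Type*} [Fintype ι] [DecidableEq ι] [Fintype κ] [DecidableEq κ]
  [Fintype μ] [DecidableEq μ]

/-- `A ↦ diag(A, 1)` read along an identification of index types. -/
def blockHom (e : ι ⊕ κ ≃ μ) : Matrix ι ι F →* Matrix μ μ F where
  toFun A := Matrix.reindexAlgEquiv F F e (Matrix.fromBlocks A 0 0 1)
  map_one' := by rw [Matrix.fromBlocks_one, map_one]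
  map_mul' A B := by rw [← map_mul, Matrix.fromBlocks_multiply]; simp

theorem det_blockHom (e : ι ⊕ κ ≃ μ) (A : Matrix ι ι F) : (blockHom e A).det = A.det := by
  simp [blockHom]

theorem blockHom_injective (e : ι ⊕ κ ≃ μ) : Function.Injective (blockHom (F := F) e) := by
  intro A B h
  exact (Matrix.fromBlocks_inj.mp ((Matrix.reindexAlgEquiv F F e).injective h)).1

/-- `SL_ι → SL_μ` along a block embedding. -/
def slBlock (e : ι ⊕ κ ≃ μ) :
    Matrix.SpecialLinearGroup ι F →* Matrix.SpecialLinearGroup μ F where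
  toFun A := ⟨blockHom e A.1, by rw [det_blockHom, A.2]⟩
  map_one' := Subtype.ext (map_one (blockHom e))
  map_mul' A B := Subtype.ext (map_mul (blockHom e) A.1 B.1)

theorem slBlock_injective (e : ι ⊕ κ ≃ μ) : Function.Injective (slBlock (F := F) e) :=
  fun A B h => Subtype.ext (blockHom_injective e (congrArg Subtype.val h))

/-- The permutation matrix homomorphism into `GL`. -/
def permGL : Equiv.Perm ι →* GL ι F := (Matrix.permMatrixHom (n := ι) (R := F)).toHomUnits

theorem permGL_injective : Function.Injective (permGL (ι := ι) (F := F)) := by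
  intro σ τ h
  have h' := congrArg (fun g : GL ι F => (g : Matrix ι ι F)) h
  simp only [permGL, MonoidHom.coe_toHomUnits, Matrix.permMatrixHom_apply] at h'
  refine inv_injective (Equiv.ext fun i => ?_)
  have := congrFun (congrFun h' i) (σ⁻¹ i)
  simp [PEquiv.toMatrix_apply, Equiv.Perm.permMatrix] at this
  exact this.symm

/-- Even permutations as matrices of determinant one. -/
def altSL : alternatingGroup ι →* Matrix.SpecialLinearGroup ι F where
  toFun σ := ⟨(σ.1⁻¹).permMatrix F, by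
    rw [Matrix.det_permutation, map_inv, Equiv.Perm.mem_alternatingGroup.mp σ.2]; simp⟩
  map_one' := Subtype.ext (map_one (Matrix.permMatrixHom (n := ι) (R := F)))
  map_mul' σ τ := Subtype.ext (map_mul (Matrix.permMatrixHom (n := ι) (R := F)) σ.1 τ.1)

theorem altSL_injective : Function.Injective (altSL (ι := ι) (F := F)) := by
  intro σ τ h
  refine Subtype.ext (permGL_injective (F := F) (Units.ext ?_))
  exact congrArg Subtype.val h

/-- `SL₂ → GL_{2+k}`. -/
def sl2GL (k : ℕ) : Matrix.SpecialLinearGroup (Fin 2) F →* GL (Fin (2 + k)) F :=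
  Matrix.SpecialLinearGroup.toGL.comp (slBlock finSumFinEquiv)

theorem sl2GL_injective (k : ℕ) : Function.Injective (sl2GL (F := F) k) :=
  Matrix.SpecialLinearGroup.toGL_injective.comp (slBlock_injective _)

end Blocks

section Forms

/-- `diag(A, A⁻ᵀ)`. -/
def hyperbolicHom (m : ℕ) : GL (Fin m) F →* Matrix (Fin m ⊕ Fin m) (Fin m ⊕ Fin m) F where
  toFun A := Matrix.fromBlocks A.1 0 0 (A⁻¹).1ᵀ
  map_one' := by simp
  map_mul' A B := by
    rw [Matrix.fromBlocks_multiply]; simp [_root_.mul_inv_rev, Matrix.transpose_mul]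

theorem hyperbolicHom_injective (m : ℕ) : Function.Injective (hyperbolicHom (F := F) m) :=
  fun _ _ h => Units.ext (Matrix.fromBlocks_inj.mp h).1

theorem hyperbolicHom_dot (m : ℕ) (A : GL (Fin m) F) (x y : Fin m → F) :
    (A.1 *ᵥ x) ⬝ᵥ ((A⁻¹).1ᵀ *ᵥ y) = x ⬝ᵥ y := by
  rw [Matrix.mulVec_transpose, dotProduct_comm, ← Matrix.dotProduct_mulVec, Matrix.mulVec_mulVec,
    ← Units.val_mul, inv_mul_cancel, Units.val_one, Matrix.one_mulVec, dotProduct_comm]

theorem hyperbolicHom_mem_symplectic (m : ℕ) (A : GL (Fin m) F) :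
    hyperbolicHom m A ∈ Matrix.symplecticGroup (Fin m) F := by
  rw [hyperbolicHom, MonoidHom.coe_mk, OneHom.coe_mk, SymplecticGroup.fromBlocks_mem_iff]
  refine ⟨by simp, by simp, ?_⟩
  simp [← Matrix.transpose_mul, ← Units.val_mul]

/-- `GL_m → Sp_{2m}`. -/
def glSp (m : ℕ) : GL (Fin m) F →* Matrix.symplecticGroup (Fin m) F where
  toFun A := ⟨hyperbolicHom m A, hyperbolicHom_mem_symplectic m A⟩
  map_one' := Subtype.ext (map_one _)
  map_mul' A B := Subtype.ext (map_mul _ A B)

theorem glSp_injective (m : ℕ) : Function.Injective (glSp (F := F) m) :=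
  fun _ _ h => hyperbolicHom_injective m (congrArg Subtype.val h)

theorem quadFormPlus_hyperbolicHom (m : ℕ) (A : GL (Fin m) F) (v : Fin m ⊕ Fin m → F) :
    Cfsg.quadFormPlus m F (hyperbolicHom m A *ᵥ v) = Cfsg.quadFormPlus m F v := by
  have hv : v = Sum.elim (v ∘ Sum.inl) (v ∘ Sum.inr) := (Sum.elim_comp_inl_inr v).symm
  rw [hyperbolicHom, MonoidHom.coe_mk, OneHom.coe_mk, Matrix.fromBlocks_mulVec]
  simp only [Matrix.zero_mulVec, add_zero, zero_add, Cfsg.quadFormPlus, Sum.elim_inl, Sum.elim_inr]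
  exact hyperbolicHom_dot m A (v ∘ Sum.inl) (v ∘ Sum.inr)

theorem quadFormOdd_hyperbolicHom (m : ℕ) (A : GL (Fin m) F) (v : Unit ⊕ (Fin m ⊕ Fin m) → F) :
    Cfsg.quadFormOdd m F (blockHom (Equiv.sumComm _ _) (hyperbolicHom m A) *ᵥ v) =
      Cfsg.quadFormOdd m F v := by
  have h := quadFormPlus_hyperbolicHom m A (v ∘ Sum.inr)
  have hmv : ∀ i, (blockHom (Equiv.sumComm (Fin m ⊕ Fin m) Unit) (hyperbolicHom m A) *ᵥ v) i =
      Sum.elim (fun u => v (Sum.inl u)) (hyperbolicHom m A *ᵥ (v ∘ Sum.inr)) i := by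
    intro i
    cases i <;> simp [blockHom, Matrix.mulVec, dotProduct]
  simp only [Cfsg.quadFormOdd, hmv, Sum.elim_inl, Sum.elim_inr]
  simp only [Cfsg.quadFormPlus, Function.comp_apply] at h
  rw [h]

theorem quadFormMinus_hyperbolicHom (m : ℕ) (a b : F) (A : GL (Fin m) F)
    (v : (Fin m ⊕ Fin m) ⊕ Fin 2 → F) :
    Cfsg.quadFormMinus m F a b (blockHom (Equiv.refl _) (hyperbolicHom m A) *ᵥ v) =
      Cfsg.quadFormMinus m F a b v := by
  have h := quadFormPlus_hyperbolicHom m A (v ∘ Sum.inl)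
  have hmv : ∀ i, (blockHom (Equiv.refl ((Fin m ⊕ Fin m) ⊕ Fin 2)) (hyperbolicHom m A) *ᵥ v) i =
      Sum.elim (hyperbolicHom m A *ᵥ (v ∘ Sum.inl)) (fun u => v (Sum.inr u)) i := by
    intro i
    cases i <;> simp [blockHom, Matrix.mulVec, dotProduct, Matrix.one_apply]
  simp only [Cfsg.quadFormMinus, hmv, Sum.elim_inl, Sum.elim_inr]
  simp only [Cfsg.quadFormPlus, Function.comp_apply] at h
  rw [h]

/-- A homomorphism into the isometry group from one into matrices. -/
def toIsometry {G : Type*} [Group G] {ι : Type} [Fintype ι] [DecidableEq ι] (Q : (ι → F) → F)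
    (φ : G →* Matrix ι ι F) (hφ : ∀ g v, Q (φ g *ᵥ v) = Q v) : G →* ↥(Cfsg.isometryGroup F Q) :=
  (φ.toHomUnits).codRestrict _ (fun g => fun u _ => hφ g u)

theorem toIsometry_injective {G : Type*} [Group G] {ι : Type} [Fintype ι] [DecidableEq ι]
    (Q : (ι → F) → F) (φ : G →* Matrix ι ι F) (hφ : ∀ g v, Q (φ g *ᵥ v) = Q v)
    (h : Function.Injective φ) : Function.Injective (toIsometry Q φ hφ) :=
  fun _ _ hxy => h (congrArg (fun g : ↥(Cfsg.isometryGroup F Q) => (g.1 : Matrix ι ι F)) hxy)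

/-- Even permutations in `SU_n`. -/
def altSU (n q : ℕ) : alternatingGroup (Fin n) →* ↥(Cfsg.SU n F q) :=
  (altSL (F := F)).codRestrict _ (fun σ => fun u v => by
    change Cfsg.hermForm n F q ((σ.1⁻¹).permMatrix F *ᵥ u) ((σ.1⁻¹).permMatrix F *ᵥ v) =
      Cfsg.hermForm n F q u v
    rw [Matrix.permMatrix_mulVec, Matrix.permMatrix_mulVec]
    exact Equiv.sum_comp (σ.1⁻¹) (fun i => u i * v i ^ q))

theorem altSU_injective (n q : ℕ) : Function.Injective (altSU (F := F) n q) :=
  fun x y h => altSL_injective (congrArg Subtype.val h)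

end Forms

section Unitary

variable [Fintype F] [DecidableEq F] {q : ℕ}

theorem exists_pow_eq_of_pow_eq_one {d e : ℕ} (hde : d * e = Fintype.card F - 1) {z : F}
    (hz : z ^ d = 1) (hd : 0 < d) : ∃ x : F, x ^ e = z := by
  have hz0 : z ≠ 0 := by rintro rfl; simp [zero_pow hd.ne'] at hz
  obtain ⟨g, hg⟩ := IsCyclic.exists_generator (α := Fˣ)
  obtain ⟨k, hk⟩ := (Submonoid.mem_powers_iff _ _).mp
    ((mem_powers_iff_mem_zpowers).mpr (hg (Units.mk0 z hz0)))
  have h1 : g ^ (k * d) = 1 := by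
    rw [pow_mul, hk]; exact Units.ext (by simpa using hz)
  have hord : orderOf g = d * e := by
    rw [hde, ← Fintype.card_units]; exact orderOf_eq_card_of_forall_mem_zpowers hg |>.trans
      (Nat.card_eq_fintype_card)
  have h2 := orderOf_dvd_of_pow_eq_one h1
  rw [hord, mul_comm k] at h2
  obtain ⟨c, rfl⟩ := Nat.dvd_of_mul_dvd_mul_left hd h2
  refine ⟨((g ^ c : Fˣ) : F), ?_⟩
  rw [← Units.val_pow_eq_pow_val, ← pow_mul, mul_comm, hk, Units.val_mk0]

/-- The subfield fixed by `x ↦ x^q`. -/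
def fixedSubfield (hadd : ∀ x y : F, (x + y) ^ q = x ^ q + y ^ q) (hneg : (-1 : F) ^ q = -1)
    (hq : q ≠ 0) : Subfield F where
  carrier := {x | x ^ q = x}
  mul_mem' ha hb := by
    simp only [Set.mem_setOf_eq] at *; rw [mul_pow, ha, hb]
  one_mem' := one_pow q
  add_mem' ha hb := by
    simp only [Set.mem_setOf_eq] at *; rw [hadd, ha, hb]
  zero_mem' := zero_pow hq
  neg_mem' {x} hx := by
    simp only [Set.mem_setOf_eq] at *; rw [neg_pow, hneg, hx, neg_one_mul]
  inv_mem' x hx := by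
    simp only [Set.mem_setOf_eq] at *; rw [inv_pow, hx]

theorem exists_sl2_to_SU (hF : Fintype.card F = q ^ 2) {n : ℕ} (hn : 2 ≤ n) :
    ∃ (K₀ : Subfield F) (φ : Matrix.SpecialLinearGroup (Fin 2) ↥K₀ →* ↥(Cfsg.SU n F q)),
      q - 1 ≤ Nat.card ↥K₀ ∧ Function.Injective φ := by
  obtain ⟨p, hp⟩ := CharP.exists F
  have : Fact p.Prime := ⟨CharP.char_is_prime F p⟩
  obtain ⟨N, hpp, hN⟩ := FiniteField.card F p
  obtain ⟨f, -, hqf⟩ : ∃ f ≤ (N : ℕ), q = p ^ f :=
    (Nat.dvd_prime_pow hpp).mp (hN ▸ hF ▸ Dvd.intro _ (sq q).symm)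
  have hq1 : 2 ≤ q := by
    by_contra h
    have : q ^ 2 ≤ 1 ^ 2 := Nat.pow_le_pow_left (by omega) 2
    have := Fintype.one_lt_card (α := F)
    omega
  have hadd : ∀ x y : F, (x + y) ^ q = x ^ q + y ^ q := fun x y => by
    subst hqf; exact add_pow_char_pow x y p f
  have hneg : (-1 : F) ^ q = -1 := by
    subst hqf; exact neg_one_pow_char_pow ..
  have hcard : Fintype.card F - 1 = (q - 1) * (q + 1) := by
    rw [hF]
    obtain ⟨r, rfl⟩ := Nat.exists_eq_add_of_le hq1
    simp only [Nat.add_sub_cancel_left, show 2 + r - 1 = r + 1 by omega]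
    rw [show (2 + r) ^ 2 = (r + 1) * (2 + r + 1) + 1 by ring]
    omega
  have hqq : ∀ x : F, (x ^ q) ^ q = x := fun x => by
    rw [← pow_mul, ← sq, ← hF, FiniteField.pow_card]
  -- the isotropic vectors
  obtain ⟨a, ha⟩ := exists_pow_eq_of_pow_eq_one hcard.symm (z := (-1 : F))
    (by
      have : (-1 : F) * (-1) ^ (q - 1) = (-1) * 1 := by
        rw [mul_one, ← pow_succ', Nat.sub_add_cancel (by omega), hneg]
      exact mul_left_cancel₀ (by simp) this) (by omega)
  obtain ⟨ε, hε⟩ := exists_pow_eq_of_pow_eq_one ((mul_comm (q + 1) (q - 1)).trans hcard.symm) (z := (-1 : F))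
    (by rw [pow_succ, hneg]; ring) (by omega)
  have hε0 : ε ≠ 0 := by rintro rfl; simp [zero_pow (show q - 1 ≠ 0 by omega)] at hε
  have hεq : ε ^ q = -ε := by
    conv_lhs => rw [show q = q - 1 + 1 by omega]
    rw [pow_succ, hε]; ring
  obtain ⟨g, hg⟩ := IsCyclic.exists_generator (α := Fˣ)
  have hord : orderOf g = (q - 1) * (q + 1) := by
    rw [← hcard, ← Fintype.card_units]; exact (orderOf_eq_card_of_forall_mem_zpowers hg).trans
      (Nat.card_eq_fintype_card)
  set u : F := ((g ^ (q - 1) : Fˣ) : F) with hu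
  have hu1 : u ≠ 1 := by
    intro h
    have := Nat.le_of_dvd (by omega) (orderOf_dvd_of_pow_eq_one (Units.ext h : g ^ (q - 1) = 1))
    rw [hord] at this
    nlinarith [Nat.le_mul_of_pos_right (q - 1) (show 0 < q + 1 by omega),
      show 0 < q - 1 by omega]
  have huq : u ^ (q + 1) = 1 := by
    rw [hu, ← Units.val_pow_eq_pow_val, ← pow_mul, ← hord, pow_orderOf_eq_one, Units.val_one]
  have ha0 : a ≠ 0 := by rintro rfl; simp [zero_pow (show q + 1 ≠ 0 by omega)] at ha
  set b : F := a * u with hb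
  have haq : a * a ^ q = -1 := by rw [← pow_succ', ha]
  have hbq : b * b ^ q = -1 := by rw [hb, mul_pow, mul_mul_mul_comm, haq, ← pow_succ', huq, mul_one]
  set δ : F := 1 + a * b ^ q with hδ
  have hδu : δ = 1 - u ^ q := by rw [hδ, hb, mul_pow, ← mul_assoc, haq]; ring
  have hδ0 : δ ≠ 0 := by
    rw [hδu, sub_ne_zero]
    intro h
    exact hu1 (by rw [← hqq u, ← h, one_pow])
  set lam : F := (ε / δ) ^ q with hlam
  have hlamq : lam ^ q = ε / δ := hqq _
  have hlam0 : lam ≠ 0 := pow_ne_zero _ (div_ne_zero hε0 hδ0)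
  let P : Matrix (Fin 2) (Fin 2) F := !![1, lam; a, lam * b]
  have hP : P.det ≠ 0 := by
    simp only [P, Matrix.det_fin_two_of]
    rw [one_mul, ← mul_sub]
    refine mul_ne_zero hlam0 (sub_ne_zero.mpr fun h => hu1 ?_)
    exact mul_left_cancel₀ ha0 (by rw [mul_one]; exact h)
  -- the form in the new basis
  have hform : ∀ x y : Fin 2 → F, Cfsg.hermForm 2 F q (P *ᵥ x) (P *ᵥ y) =
      ε * (x 0 * y 1 ^ q - x 1 * y 0 ^ q) := by
    intro x y
    have h1 : lam ^ q * δ = ε := by rw [hlamq]; field_simp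
    have h2 : lam * (1 + b * a ^ q) = -ε := by
      have := congrArg (· ^ q) h1
      simp only [mul_pow, hδ, hadd, one_pow, hqq, hεq] at this
      linear_combination this
    rw [hδ] at h1
    simp only [Cfsg.hermForm, P, Fin.sum_univ_two, Matrix.mulVec, dotProduct, Matrix.of_apply,
      Matrix.cons_val', Matrix.cons_val_zero, Matrix.cons_val_one, Matrix.cons_val_fin_one,
      Fin.isValue, hadd, mul_pow, one_pow, one_mul]
    linear_combination (x 0 * y 0 ^ q) * haq + (x 1 * y 1 ^ q) * (lam * lam ^ q) * hbq +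
      (x 0 * y 1 ^ q) * h1 + (x 1 * y 0 ^ q) * h2
  let K₀ : Subfield F := fixedSubfield hadd hneg (by omega)
  let Pu : GL (Fin 2) F := Matrix.GeneralLinearGroup.mkOfDetNeZero P hP
  let T : Matrix.SpecialLinearGroup (Fin 2) ↥K₀ →* Matrix.SpecialLinearGroup (Fin 2) F :=
    { toFun := fun s => ⟨Pu.1 * s.1.map (K₀.subtype) * (Pu⁻¹).1, by
        rw [Matrix.det_mul, Matrix.det_mul, mul_comm Pu.1.det, mul_assoc, ← Matrix.det_mul,
          ← Units.val_mul, mul_inv_cancel, Units.val_one, Matrix.det_one, mul_one,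
          ← RingHom.mapMatrix_apply, ← RingHom.map_det, s.2, map_one]⟩
      map_one' := Subtype.ext (by simp [← Units.val_mul])
      map_mul' := fun s t => Subtype.ext (by
        change Pu.1 * (s.1 * t.1).map K₀.subtype * (Pu⁻¹).1 =
          Pu.1 * s.1.map K₀.subtype * (Pu⁻¹).1 * (Pu.1 * t.1.map K₀.subtype * (Pu⁻¹).1)
        simp only [Matrix.map_mul, mul_assoc]
        rw [← mul_assoc (Pu⁻¹).1 Pu.1, ← Units.val_mul, inv_mul_cancel, Units.val_one, one_mul]) }
  have hT : Function.Injective T := by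
    intro s t h
    have h' : Pu.1 * s.1.map K₀.subtype * (Pu⁻¹).1 = Pu.1 * t.1.map K₀.subtype * (Pu⁻¹).1 :=
      congrArg Subtype.val h
    rw [Units.mul_left_inj, Units.mul_right_inj] at h'
    exact Subtype.ext (Matrix.map_injective Subtype.val_injective h')
  obtain ⟨k, rfl⟩ := Nat.exists_eq_add_of_le hn
  have hmem : ∀ s, slBlock (F := F) (finSumFinEquiv (m := 2) (n := k)) (T s) ∈
      Cfsg.SU (2 + k) F q := by
    intro s x y
    have hsplit : ∀ z : Fin (2 + k) → F,
        (blockHom (finSumFinEquiv (m := 2) (n := k)) (T s).1 *ᵥ z) ∘ finSumFinEquiv =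
        Sum.elim ((T s).1 *ᵥ (z ∘ finSumFinEquiv ∘ Sum.inl)) (z ∘ finSumFinEquiv ∘ Sum.inr) := by
      intro z
      simp [blockHom, Matrix.submatrix_mulVec_equiv, Matrix.fromBlocks_mulVec, Function.comp_def]
    change Cfsg.hermForm (2 + k) F q (blockHom finSumFinEquiv (T s).1 *ᵥ x)
      (blockHom finSumFinEquiv (T s).1 *ᵥ y) = Cfsg.hermForm (2 + k) F q x y
    simp only [Cfsg.hermForm, ← finSumFinEquiv.sum_comp]
    have ex := congrFun (hsplit x)
    have ey := congrFun (hsplit y)
    simp only [Function.comp_apply] at ex ey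
    simp only [ex, ey, Fintype.sum_sum_type, Sum.elim_inl, Sum.elim_inr, Function.comp_apply]
    congr 1
    set x' := (fun i => x (finSumFinEquiv (Sum.inl i : Fin 2 ⊕ Fin k))) with hx'
    set y' := (fun i => y (finSumFinEquiv (Sum.inl i : Fin 2 ⊕ Fin k))) with hy'
    change Cfsg.hermForm 2 F q ((T s).1 *ᵥ x') ((T s).1 *ᵥ y') = Cfsg.hermForm 2 F q x' y'
    have e : ∀ z, (T s).1 *ᵥ z = P *ᵥ (s.1.map K₀.subtype *ᵥ ((Pu⁻¹).1 *ᵥ z)) := fun z => by
      rw [Matrix.mulVec_mulVec, Matrix.mulVec_mulVec]; rfl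
    have e' : ∀ z, z = P *ᵥ ((Pu⁻¹).1 *ᵥ z) := fun z => by
      rw [Matrix.mulVec_mulVec, show P = Pu.1 from rfl, ← Units.val_mul, mul_inv_cancel,
        Units.val_one, Matrix.one_mulVec]
    rw [e, e, hform]
    conv_rhs => rw [e' x', e' y', hform]
    congr 1
    have hdet : (s.1 0 0 : F) * s.1 1 1 - (s.1 0 1 : F) * s.1 1 0 = 1 := by
      have h := congrArg K₀.subtype s.2
      rw [Matrix.det_fin_two, map_sub, map_mul, map_mul, map_one] at h
      exact h
    have hfix : ∀ i j, (s.1 i j : F) ^ q = s.1 i j := fun i j => (s.1 i j).2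
    generalize (Pu⁻¹).1 *ᵥ x' = X
    generalize (Pu⁻¹).1 *ᵥ y' = Y
    simp only [Matrix.mulVec, dotProduct, Fin.sum_univ_two, Matrix.map_apply,
      Subfield.coe_subtype, hadd, mul_pow, hfix]
    linear_combination (X 0 * Y 1 ^ q - X 1 * Y 0 ^ q) * hdet
  refine ⟨K₀, ((slBlock finSumFinEquiv).comp T).codRestrict _ hmem, ?_, fun s t h =>
    hT (slBlock_injective _ (congrArg Subtype.val h))⟩
  have hinj : Function.Injective (fun i : Fin (q - 1) =>
      (⟨((g ^ ((q + 1) * i.val) : Fˣ) : F), by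
        change _ ^ q = _
        rw [← Units.val_pow_eq_pow_val]
        congr 1
        have : g ^ ((q + 1) * i.val * (q - 1)) = 1 := by
          rw [show (q + 1) * i.val * (q - 1) = orderOf g * i.val by rw [hord]; ring, pow_mul,
            pow_orderOf_eq_one, one_pow]
        calc (g ^ ((q + 1) * i.val)) ^ q
            = g ^ ((q + 1) * i.val * (q - 1)) * g ^ ((q + 1) * i.val) := by
              rw [← pow_mul, ← pow_add, ← Nat.mul_succ, Nat.succ_eq_add_one,
                Nat.sub_add_cancel (by omega)]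
          _ = _ := by rw [this, one_mul]⟩ : ↥K₀)) := by
    intro i j h
    have h' : g ^ ((q + 1) * i.val) = g ^ ((q + 1) * j.val) :=
      Units.ext (congrArg Subtype.val h)
    apply Fin.ext
    have hlt : ∀ i : Fin (q - 1), (q + 1) * i.val < orderOf g := fun i => by
      rw [hord, mul_comm (q - 1)]
      exact Nat.mul_lt_mul_of_pos_left i.2 (by omega)
    exact Nat.eq_of_mul_eq_mul_left (by omega) (pow_injOn_Iio_orderOf (hlt i) (hlt j) h')
  simpa using Nat.card_le_card_of_injective _ hinj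

end Unitary

end CfsgLib.Words
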