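import Mathlib

/-!
Witnesses that a nontrivial element of a free group is not a law.
-/

set_option autoImplicit false

namespace CfsgLib.Words

universe u


open scoped commutatorElement

variable {α : Type*}

/-- Naturality of evaluation of words. -/
theorem map_lift {G H : Type*} [Group G] [Group H] (φ : G →* H) (f : α → G) (w : FreeGroup α) :
    φ (FreeGroup.lift f w) = FreeGroup.lift (fun i => φ (f i)) w := by
  have : φ.comp (FreeGroup.lift f) = FreeGroup.lift (fun i => φ (f i)) :=
    FreeGroup.ext_hom _ _ (fun i => by simp)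
  exact DFunLike.congr_fun this w

theorem exists_perm_extending {β : Type*} [Finite β] (r : β → β → Prop)
    (h1 : ∀ x y y', r x y → r x y' → y = y') (h2 : ∀ x x' y, r x y → r x' y → x = x') :
    ∃ σ : Equiv.Perm β, ∀ x y, r x y → σ x = y := by
  classical
  have := Fintype.ofFinite β
  let e : {x : β // ∃ y, r x y} ≃ {y : β // ∃ x, r x y} :=
    Equiv.ofBijective (fun x => ⟨x.2.choose, x.1, x.2.choose_spec⟩) ⟨by
      intro a b hab
      have hab' : a.2.choose = b.2.choose := congrArg Subtype.val hab
      exact Subtype.ext (h2 _ _ _ a.2.choose_spec (hab' ▸ b.2.choose_spec)), by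
      rintro ⟨y, x, hxy⟩
      have hx : ∃ y, r x y := ⟨y, hxy⟩
      exact ⟨⟨x, hx⟩, Subtype.ext (h1 _ _ _ hx.choose_spec hxy)⟩⟩
  refine ⟨e.extendSubtype, fun x y hxy => ?_⟩
  rw [Equiv.extendSubtype_apply_of_mem e x ⟨y, hxy⟩]
  exact h1 _ _ _ (Exists.choose_spec (⟨y, hxy⟩ : ∃ y, r x y)) hxy

/-- Free groups are residually finite, in the form: a nontrivial word moves a point under some
substitution of permutations of a finite set. -/
theorem exists_perm_lift_ne_one (w : FreeGroup α) (hw : w ≠ 1) :
    ∃ (n : ℕ) (f : α → Equiv.Perm (Fin n)), FreeGroup.lift f w ≠ 1 := by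
  classical
  set L := w.toWord with hL
  have hne : L ≠ [] := by
    rw [hL]; simpa [FreeGroup.toWord_eq_nil_iff] using hw
  have hred : FreeGroup.IsReduced L := FreeGroup.isReduced_toWord
  have hget : ∀ k, (hk : k + 1 < L.length) → (L[k]).1 = (L[k+1]).1 → (L[k]).2 = (L[k+1]).2 :=
    fun k hk => List.isChain_iff_getElem.mp hred k hk
  -- the edge relation of each generator
  let r : α → Fin (L.length + 1) → Fin (L.length + 1) → Prop := fun i x y =>
    ∃ (k : ℕ) (hk : k < L.length), (L[k]).1 = i ∧
      (((L[k]).2 = true ∧ x.val = k + 1 ∧ y.val = k) ∨ ((L[k]).2 = false ∧ x.val = k ∧ y.val = k + 1))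
  have key : ∀ i, ∀ k l (hk : k < L.length) (hl : l < L.length), (L[k]).1 = i → (L[l]).1 = i →
      k + 1 = l → (L[k]).2 = (L[l]).2 := by
    intro i k l hk hl hik hil hkl
    subst hkl
    exact hget k hl (hik.trans hil.symm)
  have h1 : ∀ i x y y', r i x y → r i x y' → y = y' := by
    rintro i x y y' ⟨k, hk, hik, h⟩ ⟨l, hl, hil, h'⟩
    apply Fin.ext
    have a := key i k l hk hl hik hil
    have b := key i l k hl hk hil hik
    rcases h with ⟨hb, hx, hy⟩ | ⟨hb, hx, hy⟩ <;> rcases h' with ⟨hb', hx', hy'⟩ | ⟨hb', hx', hy'⟩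
    · omega
    · have := a (by omega); simp [hb, hb'] at this
    · have := b (by omega); simp [hb, hb'] at this
    · omega
  have h2 : ∀ i x x' y, r i x y → r i x' y → x = x' := by
    rintro i x x' y ⟨k, hk, hik, h⟩ ⟨l, hl, hil, h'⟩
    apply Fin.ext
    have a := key i k l hk hl hik hil
    have b := key i l k hl hk hil hik
    rcases h with ⟨hb, hx, hy⟩ | ⟨hb, hx, hy⟩ <;> rcases h' with ⟨hb', hx', hy'⟩ | ⟨hb', hx', hy'⟩
    · omega
    · have := b (by omega); simp [hb, hb'] at this
    · have := a (by omega); simp [hb, hb'] at this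
    · omega
  choose σ hσ using fun i => exists_perm_extending (r i) (h1 i) (h2 i)
  refine ⟨L.length + 1, σ, fun hone => ?_⟩
  have hlift : FreeGroup.lift σ w = (L.map fun x => bif x.2 then σ x.1 else (σ x.1)⁻¹).prod := by
    rw [← FreeGroup.lift_mk]
    exact congrArg (FreeGroup.lift σ) (FreeGroup.mk_toWord).symm
  rw [hone] at hlift
  have step : ∀ j k, (hjk : k + j = L.length) →
      ((L.drop k).map fun x => bif x.2 then σ x.1 else (σ x.1)⁻¹).prod
        (Fin.last L.length) = (⟨k, by omega⟩ : Fin (L.length + 1)) := by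
    intro j
    induction j with
    | zero =>
      intro k hjk
      have : k = L.length := by omega
      subst this
      simp [Fin.ext_iff]
    | succ j ih =>
      intro k hjk
      have hk : k < L.length := by omega
      rw [List.drop_eq_getElem_cons hk, List.map_cons, List.prod_cons, Equiv.Perm.mul_apply,
        ih (k + 1) (by omega)]
      cases hb : (L[k]).2 with
      | true => exact hσ _ _ _ ⟨k, hk, rfl, Or.inl ⟨hb, rfl, rfl⟩⟩
      | false =>
        simp only [cond_false]
        rw [Equiv.Perm.inv_def, Equiv.symm_apply_eq]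
        exact (hσ _ _ _ ⟨k, hk, rfl, Or.inr ⟨hb, rfl, rfl⟩⟩).symm
  have h0 := step L.length 0 (by omega)
  rw [List.drop_zero, ← hlift, Equiv.Perm.one_apply, Fin.ext_iff] at h0
  exact hne (List.length_eq_zero_iff.mp (by simpa using h0))

/-- The permutation of `Bool × β` acting as `σ` on one sheet and `τ` on the other. -/
def sheetPerm {β : Type*} : Equiv.Perm β × Equiv.Perm β →* Equiv.Perm (Bool × β) where
  toFun p := Equiv.prodCongrRight fun b => bif b then p.1 else p.2
  map_one' := by ext ⟨b, x⟩ <;> cases b <;> simp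
  map_mul' p q := by ext ⟨b, x⟩ <;> cases b <;> simp

/-- The swap of the two sheets. -/
def sheetSwap {β : Type*} : Equiv.Perm (Bool × β) :=
  Equiv.prodCongr ⟨not, not, Bool.not_not, Bool.not_not⟩ (Equiv.refl β)

theorem sheetPerm_commutator {β : Type*} (σ : Equiv.Perm β) :
    ⁅sheetPerm (σ, 1), (sheetSwap : Equiv.Perm (Bool × β))⁆ = sheetPerm (σ, σ⁻¹) := by
  rw [commutatorElement_def]
  ext ⟨b, x⟩ <;> cases b <;> simp [sheetPerm, sheetSwap, Equiv.Perm.inv_def, Equiv.Perm.one_def]

/-- Substituting commutators of fresh generators. -/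
def commSubst : FreeGroup ℕ →* FreeGroup ℕ :=
  FreeGroup.lift fun i => ⁅FreeGroup.of (2 * i), FreeGroup.of (2 * i + 1)⁆

theorem commSubst_ne_one {w : FreeGroup ℕ} (hw : w ≠ 1) : commSubst w ≠ 1 := by
  obtain ⟨n, f, hf⟩ := exists_perm_lift_ne_one w hw
  intro h
  let g : ℕ → Equiv.Perm (Bool × Fin n) := fun j =>
    if j % 2 = 0 then sheetPerm (f (j / 2), 1) else sheetSwap
  have hcomp : (FreeGroup.lift g).comp commSubst =
      sheetPerm.comp (FreeGroup.lift fun i => (f i, (f i)⁻¹)) := by
    refine FreeGroup.ext_hom _ _ fun i => ?_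
    simp only [MonoidHom.comp_apply, commSubst, FreeGroup.lift_apply_of, map_commutatorElement, g]
    rw [if_pos (by omega), if_neg (by omega), Nat.mul_div_cancel_left i (by norm_num)]
    exact sheetPerm_commutator _
  have := DFunLike.congr_fun hcomp w
  simp only [MonoidHom.comp_apply, h, map_one] at this
  set p := FreeGroup.lift (fun i => (f i, (f i)⁻¹)) w with hp
  apply hf
  have hfst : p.1 = FreeGroup.lift f w :=
    map_lift (MonoidHom.fst _ _) (fun i => (f i, (f i)⁻¹)) w
  rw [← hfst]
  ext x
  have := congrArg (fun e : Equiv.Perm (Bool × Fin n) => (e (true, x)).2) this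
  simpa [sheetPerm] using congrArg Fin.val this.symm

/-- The word `[w', x₀]`, `w'` being `w` written in the generators `x₁, x₂, …`. -/
def centralWord (w : FreeGroup ℕ) : FreeGroup ℕ :=
  ⁅FreeGroup.map Nat.succ w, FreeGroup.of 0⁆

theorem centralWord_ne_one {w : FreeGroup ℕ} (hw : w ≠ 1) : centralWord w ≠ 1 := by
  obtain ⟨n, f, hf⟩ := exists_perm_lift_ne_one w hw
  intro h
  let g : ℕ → Equiv.Perm (Bool × Fin n)
    | 0 => sheetSwap
    | i + 1 => sheetPerm (f i, 1)
  have hcomp : (FreeGroup.lift g).comp (FreeGroup.map Nat.succ) =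
      sheetPerm.comp (FreeGroup.lift fun i => (f i, 1)) := by
    refine FreeGroup.ext_hom _ _ fun i => ?_
    simp [g]
  have h1 := DFunLike.congr_fun hcomp w
  simp only [MonoidHom.comp_apply] at h1
  set p := FreeGroup.lift (fun i => (f i, (1 : Equiv.Perm (Fin n)))) w with hp
  have hfst : p.1 = FreeGroup.lift f w :=
    map_lift (MonoidHom.fst _ _) (fun i => (f i, (1 : Equiv.Perm (Fin n)))) w
  have hsnd : p.2 = 1 := by
    rw [show p.2 = FreeGroup.lift (fun _ : ℕ => (1 : Equiv.Perm (Fin n))) w from
      map_lift (MonoidHom.snd _ _) (fun i => (f i, (1 : Equiv.Perm (Fin n)))) w]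
    have : FreeGroup.lift (fun _ : ℕ => (1 : Equiv.Perm (Fin n))) = 1 :=
      FreeGroup.ext_hom _ _ (fun i => by simp)
    simp [this]
  have h2 := congrArg (FreeGroup.lift g) h
  simp only [centralWord, map_commutatorElement, FreeGroup.lift_apply_of, h1] at h2
  replace h2 : ⁅sheetPerm p, g 0⁆ = 1 := h2.trans (map_one _)
  rw [commutatorElement_eq_one_iff_commute] at h2
  apply hf
  rw [← hfst]
  ext x
  have := congrArg (fun e : Equiv.Perm (Bool × Fin n) => (e (false, x)).2) h2.eq
  simp [g, sheetPerm, sheetSwap, hsnd] at this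
  simpa using congrArg Fin.val this

theorem conjEmbed_ne_one {w : FreeGroup ℕ} (hw : w ≠ 1) :
    FreeGroup.lift (fun i : ℕ =>
      FreeGroup.of true ^ i * FreeGroup.of false * (FreeGroup.of true ^ i)⁻¹) w ≠ 1 := by
  classical
  let T : MulAut (FreeGroup ℤ) := FreeGroup.freeGroupCongr (Equiv.addRight (1 : ℤ))
  let φ : Multiplicative ℤ →* MulAut (FreeGroup ℤ) := zpowersHom _ T
  let ψ : FreeGroup Bool →* FreeGroup ℤ ⋊[φ] Multiplicative ℤ :=
    FreeGroup.lift fun b => bif b then SemidirectProduct.inr (Multiplicative.ofAdd 1)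
      else SemidirectProduct.inl (FreeGroup.of 0)
  intro h
  have hcomp : ψ.comp (FreeGroup.lift fun i : ℕ =>
      FreeGroup.of true ^ i * FreeGroup.of false * (FreeGroup.of true ^ i)⁻¹) =
      SemidirectProduct.inl.comp (FreeGroup.map ((↑) : ℕ → ℤ)) := by
    refine FreeGroup.ext_hom _ _ fun i => ?_
    simp only [MonoidHom.comp_apply, FreeGroup.lift_apply_of, FreeGroup.map.of, map_mul, map_inv,
      map_pow, ψ, cond_true, cond_false]
    rw [← map_pow, ← map_inv, ← SemidirectProduct.inl_aut]
    congr 1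
    have hT : ∀ k : ℕ, ∀ z : ℤ, (T ^ k) (FreeGroup.of z) = FreeGroup.of (z + k) := by
      intro k
      induction k with
      | zero => intro z; simp
      | succ k ih =>
        intro z
        rw [pow_succ, MulAut.mul_apply]
        have : T (FreeGroup.of z) = FreeGroup.of (z + 1) := by simp [T]
        rw [this, ih]
        push_cast; ring_nf
    simp [φ, zpowersHom_apply, hT]
  have := DFunLike.congr_fun hcomp w
  simp only [MonoidHom.comp_apply, h, map_one] at this
  have h' : FreeGroup.map ((↑) : ℕ → ℤ) w = 1 :=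
    SemidirectProduct.inl_injective (by simpa using this.symm)
  apply hw
  have hinv : (FreeGroup.map Int.toNat).comp (FreeGroup.map ((↑) : ℕ → ℤ)) =
      MonoidHom.id (FreeGroup ℕ) := FreeGroup.ext_hom _ _ (fun i => by simp)
  have := DFunLike.congr_fun hinv w
  simpa [h'] using this.symm

end CfsgLib.Words
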