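import Cfsg.Agent.Lib.Words.FreeWitness

/-!
Ping-pong by leading coefficients: conjugates of a "hyperbolic" polynomial matrix generate a free
group, with explicit degree bounds, so that the statement specialises to large finite fields.
-/

set_option autoImplicit false

namespace CfsgLib.Words

open Polynomial

variable {K : Type*} [Field K] {ι : Type*} [Fintype ι] [DecidableEq ι]

/-- All entries have degree at most `k`. -/
def DegLE (M : Matrix ι ι K[X]) (k : ℕ) : Prop := ∀ i j, (M i j).natDegree ≤ k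

/-- The matrix of coefficients in degree `k`. -/
def topCoeff (M : Matrix ι ι K[X]) (k : ℕ) : Matrix ι ι K := M.map fun p => p.coeff k

omit [DecidableEq ι] in
theorem DegLE.mul {A B : Matrix ι ι K[X]} {a b : ℕ} (hA : DegLE A a) (hB : DegLE B b) :
    DegLE (A * B) (a + b) ∧ topCoeff (A * B) (a + b) = topCoeff A a * topCoeff B b := by
  refine ⟨fun i j => ?_, ?_⟩
  · rw [Matrix.mul_apply]
    exact natDegree_sum_le_of_forall_le _ _
      fun k _ => natDegree_mul_le_of_le (hA i k) (hB k j)
  · ext i j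
    simp only [topCoeff, Matrix.map_apply, Matrix.mul_apply, finsetSum_coeff]
    exact Finset.sum_congr rfl fun k _ =>
      coeff_mul_add_eq_of_natDegree_le (hA i k) (hB k j)

omit [Fintype ι] [DecidableEq ι] in
theorem degLE_C (A : Matrix ι ι K) : DegLE (A.map Polynomial.C) 0 := fun i j => by simp

omit [Fintype ι] [DecidableEq ι] in
theorem topCoeff_C (A : Matrix ι ι K) : topCoeff (A.map Polynomial.C) 0 = A := by
  ext i j; simp [topCoeff]

theorem eq_zero_or_ne_scalar {u r : ι → K} (hu : u ≠ 0) (hr : r ≠ 0) (hι : 1 < Fintype.card ι) :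
    (∃ i j, i ≠ j ∧ u i * r j ≠ 0) ∨ (∃ i j, u i * r i - u j * r j ≠ 0) := by
  by_contra hcon
  push Not at hcon
  obtain ⟨k, hk⟩ := Function.ne_iff.mp hu
  obtain ⟨l, hl⟩ := Function.ne_iff.mp hr
  simp only [Pi.zero_apply] at hk hl
  by_cases hkl : k = l
  · subst hkl
    obtain ⟨m, hm⟩ := Fintype.exists_ne_of_one_lt_card hι k
    have h1 := hcon.1 m k hm
    have h2 := sub_eq_zero.mp (hcon.2 m k)
    have hum : u m ≠ 0 := by
      intro h0
      rw [h0, zero_mul] at h2
      exact mul_ne_zero hk hl h2.symm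
    exact mul_ne_zero hum hl h1
  · exact mul_ne_zero hk hl (hcon.1 k l hkl)

variable {α : Type*} (H : Bool → Matrix ι ι K[X]) (C : α → GL ι K)

/-- The polynomial matrix of a letter. -/
noncomputable def letterPoly (x : α × Bool) : Matrix ι ι K[X] :=
  (↑(C x.1) : Matrix ι ι K).map Polynomial.C * H x.2 *
    (↑(C x.1)⁻¹ : Matrix ι ι K).map Polynomial.C

variable {H C}

theorem exists_vecMulVec_top {d : ℕ} {t : Bool → ι} (hdeg : ∀ b, DegLE (H b) d)
    (htop : ∀ b, topCoeff (H b) d = Matrix.single (t b) (t b) 1)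
    (hC : ∀ i j, i ≠ j → ∀ b b', (↑((C i)⁻¹ * C j) : Matrix ι ι K) (t b) (t b') ≠ 0)
    (x : α × Bool) (L : List (α × Bool)) (hL : FreeGroup.IsReduced (x :: L)) :
    DegLE ((x :: L).map (letterPoly H C)).prod (d * (x :: L).length) ∧
    ∃ r : ι → K, r ≠ 0 ∧ topCoeff ((x :: L).map (letterPoly H C)).prod (d * (x :: L).length) =
      Matrix.vecMulVec (fun k => (↑(C x.1) : Matrix ι ι K) k (t x.2)) r := by
  have hletter : ∀ y : α × Bool, DegLE (letterPoly H C y) d ∧
      topCoeff (letterPoly H C y) d =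
        Matrix.vecMulVec (fun k => (↑(C y.1) : Matrix ι ι K) k (t y.2))
          (fun l => (↑(C y.1)⁻¹ : Matrix ι ι K) (t y.2) l) := by
    intro y
    have h1 := (degLE_C (↑(C y.1) : Matrix ι ι K)).mul (hdeg y.2)
    have h2 := h1.1.mul (degLE_C (↑(C y.1)⁻¹ : Matrix ι ι K))
    simp only [zero_add, add_zero] at h1 h2
    refine ⟨h2.1, ?_⟩
    rw [letterPoly, h2.2, h1.2, topCoeff_C, topCoeff_C, htop]
    ext i j
    rw [Matrix.mul_apply, Finset.sum_eq_single (t y.2)]
    · rw [Matrix.vecMulVec_apply, Matrix.mul_single_apply_same, mul_one]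
    · intro k _ hk
      rw [Matrix.mul_single_apply_of_ne (hbj := hk), zero_mul]
    · simp
  induction L generalizing x with
  | nil =>
    obtain ⟨h1, h2⟩ := hletter x
    refine ⟨by simpa using h1, fun l => (↑(C x.1)⁻¹ : Matrix ι ι K) (t x.2) l, ?_, by simpa using h2⟩
    intro h0
    have := Matrix.mul_apply (M := (↑(C x.1)⁻¹ : Matrix ι ι K)) (N := (↑(C x.1) : Matrix ι ι K))
      (i := t x.2) (k := t x.2)
    rw [← Units.val_mul, inv_mul_cancel, Units.val_one, Matrix.one_apply_eq] at this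
    simp [congrFun h0] at this
  | cons y L ih =>
    obtain ⟨hxy, hL'⟩ := List.isChain_cons_cons.mp hL
    obtain ⟨hd, r, hr, hrT⟩ := ih y hL'
    obtain ⟨hxd, hxT⟩ := hletter x
    have hm := hxd.mul hd
    have hlen : d * (x :: y :: L).length = d + d * (y :: L).length := by
      simp only [List.length_cons]; ring
    have hs : (↑((C x.1)⁻¹ * C y.1) : Matrix ι ι K) (t x.2) (t y.2) ≠ 0 := by
      by_cases h : x.1 = y.1
      · rw [h, inv_mul_cancel, Units.val_one, hxy h]
        simp
      · exact hC _ _ h _ _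
    rw [hlen, List.map_cons, List.prod_cons]
    refine ⟨hm.1, (↑((C x.1)⁻¹ * C y.1) : Matrix ι ι K) (t x.2) (t y.2) • r,
      smul_ne_zero hs hr, ?_⟩
    rw [hm.2, hxT, hrT, Matrix.vecMulVec_mul_vecMulVec]
    ext i j
    simp only [Matrix.vecMulVec_apply, Pi.smul_apply, Units.val_mul,
      Matrix.mul_apply, dotProduct, smul_eq_mul, mul_comm, mul_left_comm, mul_assoc]

/-- Evaluations of a reduced product of conjugated hyperbolic letters are non-scalar away from
the roots of a polynomial of bounded degree. -/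
theorem exists_poly_ne_scalar {d : ℕ} {t : Bool → ι} (hdeg : ∀ b, DegLE (H b) d)
    (htop : ∀ b, topCoeff (H b) d = Matrix.single (t b) (t b) 1)
    (hC : ∀ i j, i ≠ j → ∀ b b', (↑((C i)⁻¹ * C j) : Matrix ι ι K) (t b) (t b') ≠ 0)
    (hι : 1 < Fintype.card ι) (L : List (α × Bool)) (hL : FreeGroup.IsReduced L) (hne : L ≠ []) :
    ∃ p : K[X], p ≠ 0 ∧ p.natDegree ≤ d * L.length ∧ ∀ a, p.eval a ≠ 0 → ∀ c : K,
      (L.map fun x => (↑(C x.1) : Matrix ι ι K) * (H x.2).map (Polynomial.eval a) *
        (↑(C x.1)⁻¹ : Matrix ι ι K)).prod ≠ c • (1 : Matrix ι ι K) := by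
  obtain ⟨x, L, rfl⟩ := List.exists_cons_of_ne_nil hne
  obtain ⟨hd, r, hr, hT⟩ := exists_vecMulVec_top hdeg htop hC x L hL
  set P := ((x :: L).map (letterPoly H C)).prod with hP
  set n := d * (x :: L).length with hn
  have heval : ∀ a : K, ((x :: L).map fun x => (↑(C x.1) : Matrix ι ι K) *
      (H x.2).map (Polynomial.eval a) * (↑(C x.1)⁻¹ : Matrix ι ι K)).prod =
      P.map (Polynomial.eval a) := by
    intro a
    have := map_list_prod ((Polynomial.evalRingHom a).mapMatrix (m := ι))
      ((x :: L).map (letterPoly H C))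
    rw [RingHom.mapMatrix_apply, List.map_map] at this
    rw [hP]
    refine Eq.trans ?_ this.symm
    congr 1
    refine List.map_congr_left fun y _ => ?_
    have hc : ∀ A : Matrix ι ι K,
        (Polynomial.evalRingHom a).mapMatrix (A.map Polynomial.C) = A := by
      intro A; ext i j; simp
    simp only [Function.comp_apply, letterPoly, map_mul, hc]
    rfl
  have hu : (fun k => (↑(C x.1) : Matrix ι ι K) k (t x.2)) ≠ 0 := by
    intro h0
    have := Matrix.mul_apply (M := (↑(C x.1)⁻¹ : Matrix ι ι K)) (N := (↑(C x.1) : Matrix ι ι K))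
      (i := t x.2) (k := t x.2)
    rw [← Units.val_mul, inv_mul_cancel, Units.val_one, Matrix.one_apply_eq] at this
    simp [fun k => congrFun h0 k] at this
  have hcoeff : ∀ i j, (P i j).coeff n = (↑(C x.1) : Matrix ι ι K) i (t x.2) * r j := fun i j => by
    have := congrFun (congrFun hT i) j
    simpa [topCoeff, Matrix.vecMulVec_apply] using this
  rcases eq_zero_or_ne_scalar hu hr hι with ⟨i, j, hij, h⟩ | ⟨i, j, h⟩
  · refine ⟨P i j, fun h0 => h ?_, hd i j, fun a ha c heq => ha ?_⟩
    · rw [← hcoeff, h0, coeff_zero]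
    · have := congrFun (congrFun ((heval a).symm.trans heq) i) j
      simpa [Matrix.one_apply_ne hij] using this
  · refine ⟨P i i - P j j, fun h0 => h ?_, (natDegree_sub_le _ _).trans (max_le (hd i i) (hd j j)),
      fun a ha c heq => ha ?_⟩
    · rw [← hcoeff, ← hcoeff, ← coeff_sub, h0, coeff_zero]
    · have h1 := congrFun (congrFun ((heval a).symm.trans heq) i) i
      have h2 := congrFun (congrFun ((heval a).symm.trans heq) j) j
      simp [Matrix.one_apply_eq] at h1 h2
      simp [h1, h2]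

theorem lift_ne_scalar [DecidableEq α] {d : ℕ} {t : Bool → ι} (hdeg : ∀ b, DegLE (H b) d)
    (htop : ∀ b, topCoeff (H b) d = Matrix.single (t b) (t b) 1)
    (hC : ∀ i j, i ≠ j → ∀ b b', (↑((C i)⁻¹ * C j) : Matrix ι ι K) (t b) (t b') ≠ 0)
    (hι : 1 < Fintype.card ι) {w : FreeGroup α} (hw : w ≠ 1) (S : Finset K)
    (hS : d * w.toWord.length < S.card) (h : K → GL ι K)
    (hH : ∀ a ∈ S, ∀ b, ∃ s : K, (H b).map (Polynomial.eval a) =
      s • (↑(bif b then h a else (h a)⁻¹) : Matrix ι ι K)) :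
    ∃ a ∈ S, ∀ c : K,
      (↑(FreeGroup.lift (fun i => C i * h a * (C i)⁻¹) w) : Matrix ι ι K) ≠ c • 1 := by
  classical
  obtain ⟨p, hp0, hpd, hp⟩ := exists_poly_ne_scalar hdeg htop hC hι w.toWord
    FreeGroup.isReduced_toWord (by simpa [FreeGroup.toWord_eq_nil_iff] using hw)
  obtain ⟨a, haS, ha⟩ : ∃ a ∈ S, p.eval a ≠ 0 := by
    by_contra hcon
    push Not at hcon
    have hsub : S ⊆ p.roots.toFinset := fun a ha => by
      simp [mem_roots hp0, IsRoot, hcon a ha]
    have := (Finset.card_le_card hsub).trans (Multiset.toFinset_card_le _)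
    have := this.trans (p.card_roots' )
    omega
  choose s hs using hH a haS
  refine ⟨a, haS, fun c hc => hp a ha ((w.toWord.map fun x => s x.2).prod * c) ?_⟩
  have hlift : FreeGroup.lift (fun i => C i * h a * (C i)⁻¹) w =
      (w.toWord.map fun x => C x.1 * (bif x.2 then h a else (h a)⁻¹) * (C x.1)⁻¹).prod := by
    conv_lhs => rw [← FreeGroup.mk_toWord (x := w)]
    rw [FreeGroup.lift_mk]
    congr 1
    refine List.map_congr_left fun x _ => ?_
    cases x.2 <;> simp [mul_assoc]
  have key : ∀ L : List (α × Bool),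
      (L.map fun x => (↑(C x.1) : Matrix ι ι K) * (H x.2).map (Polynomial.eval a) *
        (↑(C x.1)⁻¹ : Matrix ι ι K)).prod = (L.map fun x => s x.2).prod •
      (↑((L.map fun x => C x.1 * (bif x.2 then h a else (h a)⁻¹) * (C x.1)⁻¹).prod) :
        Matrix ι ι K) := by
    intro L
    induction L with
    | nil => simp
    | cons x L ih =>
      rw [List.map_cons, List.prod_cons, ih]
      simp only [List.map_cons, List.prod_cons, Units.val_mul, hs, Matrix.mul_smul,
        Matrix.smul_mul, smul_smul]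
      rw [mul_comm (List.map (fun x => s x.2) L).prod]
  rw [key, ← hlift, hc, smul_smul]

/-- The word on two generators into which a word on countably many generators embeds. -/
def twoGen (w : FreeGroup ℕ) : FreeGroup Bool :=
  FreeGroup.lift (fun i : ℕ =>
    FreeGroup.of true ^ i * FreeGroup.of false * (FreeGroup.of true ^ i)⁻¹) w

/-- The length governing the degree bound for `w`. -/
def wordBound (w : FreeGroup ℕ) : ℕ := (twoGen w).toWord.length

/-- A word is not a law in a group with a representation containing a hyperbolic one-parameter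
family and an element in general position with respect to it. -/
theorem exists_witness {Γ : Type*} [Group Γ] (ρ : Γ →* GL ι K) {w : FreeGroup ℕ} (hw : w ≠ 1)
    {d : ℕ} {t : Bool → ι} (H : Bool → Matrix ι ι K[X]) (hdeg : ∀ b, DegLE (H b) d)
    (htop : ∀ b, topCoeff (H b) d = Matrix.single (t b) (t b) 1)
    (hι : 1 < Fintype.card ι) (c : Γ)
    (hc : ∀ b b', (↑(ρ c) : Matrix ι ι K) (t b) (t b') ≠ 0 ∧
      (↑(ρ c)⁻¹ : Matrix ι ι K) (t b) (t b') ≠ 0)
    (S : Finset K) (hS : d * wordBound w < S.card) (h : K → Γ)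
    (hH : ∀ a ∈ S, ∀ b, ∃ s : K, (H b).map (Polynomial.eval a) =
      s • (↑(bif b then ρ (h a) else (ρ (h a))⁻¹) : Matrix ι ι K)) :
    ∃ f : ℕ → Γ, ∀ z : K, (↑(ρ (FreeGroup.lift f w)) : Matrix ι ι K) ≠ z • 1 := by
  let C : Bool → GL ι K := fun b => bif b then ρ c else 1
  have hC : ∀ i j, i ≠ j → ∀ b b', (↑((C i)⁻¹ * C j) : Matrix ι ι K) (t b) (t b') ≠ 0 := by
    intro i j hij b b'
    cases i <;> cases j <;> simp [C] at hij ⊢
    · exact (hc b b').1
    · simpa using (hc b b').2
  obtain ⟨a, haS, ha⟩ := lift_ne_scalar hdeg htop hC hι (w := twoGen w) (conjEmbed_ne_one hw) S hS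
    (fun a => ρ (h a)) hH
  let g : Bool → Γ := fun b => bif b then c * h a * c⁻¹ else h a
  refine ⟨fun i => FreeGroup.lift g
    (FreeGroup.of true ^ i * FreeGroup.of false * (FreeGroup.of true ^ i)⁻¹), fun z hz => ha z ?_⟩
  rw [← hz]
  have hg : FreeGroup.lift (fun i => C i * ρ (h a) * (C i)⁻¹) = ρ.comp (FreeGroup.lift g) :=
    FreeGroup.ext_hom _ _ fun i => by cases i <;> simp [g, C]
  rw [hg, MonoidHom.comp_apply, twoGen, map_lift (FreeGroup.lift g)]

end CfsgLib.Words
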