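import Cfsg.Agent.Lib.Words.PingPong

/-! A nontrivial word takes a non-scalar value in `SL₂` over every large finite field. -/

set_option autoImplicit false

namespace CfsgLib.Words

open Polynomial Matrix

/-- Size of field beyond which `w` is not a central law of `SL₂`. -/
def sl2Bound (w : FreeGroup ℕ) : ℕ := 2 * wordBound w + 3

theorem exists_sl2_witness {K : Type*} [Field K] [Finite K] {w : FreeGroup ℕ} (hw : w ≠ 1)
    (hK : sl2Bound w ≤ Nat.card K) :
    ∃ f : ℕ → Matrix.SpecialLinearGroup (Fin 2) K, ∀ z : K,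
      ((FreeGroup.lift f w : Matrix.SpecialLinearGroup (Fin 2) K) : Matrix (Fin 2) (Fin 2) K) ≠
        z • 1 := by
  classical
  have := Fintype.ofFinite K
  rw [Nat.card_eq_fintype_card] at hK
  obtain ⟨x, hx0, hx1⟩ : ∃ x : K, x ≠ 0 ∧ x + 1 ≠ 0 := by
    by_contra hcon
    push Not at hcon
    have hsub : (Finset.univ : Finset K) ⊆ {0, -1} := fun x _ => by
      by_cases hx : x = 0
      · simp [hx]
      · simp [eq_neg_of_add_eq_zero_left (hcon x hx)]
    have := (Finset.card_le_card hsub).trans Finset.card_le_two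
    rw [Finset.card_univ] at this
    unfold sl2Bound at hK; omega
  let H : Bool → Matrix (Fin 2) (Fin 2) K[X] := fun b =>
    bif b then !![X ^ 2, 0; 0, 1] else !![1, 0; 0, X ^ 2]
  let c : Matrix.SpecialLinearGroup (Fin 2) K := ⟨!![1, 1; x, x + 1], by simp [Matrix.det_fin_two]⟩
  let h : K → Matrix.SpecialLinearGroup (Fin 2) K := fun a =>
    if ha : a = 0 then 1 else ⟨!![a, 0; 0, a⁻¹], by simp [Matrix.det_fin_two, ha]⟩
  have hcoe : ∀ g : Matrix.SpecialLinearGroup (Fin 2) K,
      ((Matrix.SpecialLinearGroup.toGL g : GL (Fin 2) K) : Matrix (Fin 2) (Fin 2) K) = g.1 :=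
    fun g => rfl
  have hcinv : ∀ g : Matrix.SpecialLinearGroup (Fin 2) K, (g⁻¹).1 = Matrix.adjugate g.1 :=
    fun g => rfl
  refine exists_witness (Matrix.SpecialLinearGroup.toGL) hw H
    (d := 2) (t := fun b => bif b then 0 else 1) ?_ ?_ (by simp) c ?_
    (Finset.univ.erase 0) ?_ h ?_
  · intro b i j
    cases b <;> fin_cases i <;> fin_cases j <;> simp [H]
  · intro b
    ext i j
    cases b <;> fin_cases i <;> fin_cases j <;> simp [H, topCoeff, coeff_one]
  · intro b b'
    rw [← map_inv]
    cases b <;> cases b' <;>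
      simp only [hcoe, hcinv] <;> simp [c, Matrix.adjugate_fin_two, hx0, hx1]
  · rw [Finset.card_erase_of_mem (Finset.mem_univ _), Finset.card_univ]
    unfold sl2Bound at hK; omega
  · intro a ha b
    have ha' : a ≠ 0 := (Finset.mem_erase.mp ha).1
    refine ⟨a, ?_⟩
    rw [← map_inv]
    cases b <;> simp only [cond_true, cond_false, hcoe, hcinv, h, dif_neg ha'] <;> ext i j <;>
      fin_cases i <;> fin_cases j <;> simp [H, Matrix.adjugate_fin_two, ha', sq]

end CfsgLib.Words
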